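import Mathlib
import Cfsg.Agent.Lib.SU.Five.Code
import Cfsg.Agent.Lib.Classical.PSUSimple
import Cfsg.Agent.Lib.Char.AlternatingPresentation

/-!
# The least index of a proper subgroup of `PSU(3,5)`
-/

set_option autoImplicit false
set_option linter.style.haveILetI false

namespace CfsgLib.SU.Five

open Subgroup

/-- the elements of the Sylow 5-subgroup -/
def uEl (n : ℕ) : List ℕ :=
  mulM (mulM (powM cA (n / 25)) (powM cB (n / 5 % 5))) (powM cZ (n % 5))

/-- the adjoint is the inverse -/
def conjM (g x : List ℕ) : List ℕ := mulM (mulM g x) (adjM g)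

theorem basic_good : ([cA, cB, cZ, cT, adjM cT, adjM cA, adjM cB, adjM cZ, oneM, cX0, cX1, cX2, cX3, cX4].all
    good) = true := by decide +kernel

theorem pow_good : ((List.range 5).all fun k => good (powM cA k) && good (powM cB k) && good (powM cZ k) &&
    good (mulM (powM cA k) cA) && good (mulM (powM cB k) cB) && good (mulM (powM cZ k) cZ)) = true := by
  decide +kernel

theorem uEl_good : ((List.range 125).all fun n => good (uEl n) && good (mulM cA (uEl n)) &&
    good (mulM cB (uEl n)) && good (mulM cZ (uEl n))) = true := by decide +kernel

/-- the index of the product with a generator -/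
def succU (g : List ℕ) (n : ℕ) : ℕ := ((List.range 125).map uEl).idxOf (mulM g (uEl n))

theorem uEl_closed : ((List.range 125).all fun n => decide (succU cA n < 125) && decide (succU cB n < 125) &&
    decide (succU cZ n < 125) && decide (uEl (succU cA n) = mulM cA (uEl n)) &&
    decide (uEl (succU cB n) = mulM cB (uEl n)) && decide (uEl (succU cZ n) = mulM cZ (uEl n))) = true := by
  decide +kernel

theorem uEl_zero : uEl 0 = oneM := by decide +kernel

theorem uEl_distinct : ((List.range 125).all fun n =>
    (List.range 125).all fun m => decide (n = m) || !sameP (uEl n) (uEl m)) = true := by decide +kernel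

theorem gens_five : sameP (powM cA 5) oneM = true ∧ sameP (powM cB 5) oneM = true ∧
    sameP (powM cZ 5) oneM = true ∧ good (powM cA 5) = true ∧ good (powM cB 5) = true ∧ good (powM cZ 5) = true := by
  decide +kernel

theorem comm_eq : sameP (mulM cA cB) (mulM (mulM cB cA) cZ) = true ∧ sameP (mulM cA cZ) (mulM cZ cA) = true ∧
    sameP (mulM cB cZ) (mulM cZ cB) = true ∧ good (mulM cA cB) = true ∧ good (mulM cB cA) = true ∧
    good (mulM (mulM cB cA) cZ) = true ∧ good (mulM cA cZ) = true ∧ good (mulM cZ cA) = true ∧
    good (mulM cB cZ) = true ∧ good (mulM cZ cB) = true := by decide +kernel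

/-- where the torus element sends the generators -/
def tImage (g : List ℕ) : ℕ := ((List.range 125).map fun n => sameP (uEl n) (conjM cT g)).idxOf true

theorem torus_gens : ([cA, cB, cZ].all fun g => good (conjM cT g) && decide (tImage g < 125) &&
    sameP (uEl (tImage g)) (conjM cT g)) = true ∧
    decide (tImage cZ / 5 = 0 ∧ tImage cZ ≠ 0) = true := by decide +kernel

theorem torus_no_eigen : ((List.range 125).all fun n => decide (n / 5 = 0) ||
    (good (conjM cT (uEl n)) && (List.range 5).all fun m => (List.range 5).all fun l =>
      good (powM (uEl n) m) && good (mulM (powM (uEl n) m) (powM cZ l)) &&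
        !sameP (conjM cT (uEl n)) (mulM (powM (uEl n) m) (powM cZ l)))) = true := by decide +kernel

theorem torus_inv : sameP (mulM cT (adjM cT)) oneM = true ∧ good (mulM cT (adjM cT)) = true ∧
    ((List.range 125).all fun n => good (mulM cT (uEl n))) = true ∧
    ([cA, cB, cZ].all fun g => good (mulM cT g)) = true := by decide +kernel

theorem uEl_pow_good : ((List.range 125).all fun n => (List.range 5).all fun m =>
    good (powM (uEl n) m) && good (mulM (powM (uEl n) m) (uEl n))) = true := by decide +kernel

end CfsgLib.SU.Five
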