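import Mathlib
import Cfsg.Agent.Lib.SU.Five.Small

/-!
# No proper subgroup of `PSU(3,5)` of index less than 50
-/

set_option autoImplicit false
set_option linter.style.haveILetI false

namespace CfsgLib.SU.Five

open Subgroup
open scoped commutatorElement

attribute [local irreducible] uEl succU tImage conjM sameP good mulM powM adjM cA cB cZ cT oneM

variable {F : Type*} [Field F] [Fintype F] [CharP F 5] {i : F} (hi : i * i = 2)
  (hF : Fintype.card F = 5 ^ 2)

/-- the Sylow 5-subgroup -/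
noncomputable def K : Subgroup (Cfsg.PSU 3 F 5) := closure {el hi cA, el hi cB, el hi cZ}

theorem good_basic {g : List ℕ}
    (hg : g ∈ [cA, cB, cZ, cT, adjM cT, adjM cA, adjM cB, adjM cZ, oneM, cX0, cX1, cX2, cX3, cX4]) :
    good g = true := List.all_eq_true.1 basic_good g hg

theorem uEl_good' {n : ℕ} (hn : n < 125) : good (uEl n) = true ∧ good (mulM cA (uEl n)) = true ∧
    good (mulM cB (uEl n)) = true ∧ good (mulM cZ (uEl n)) = true := by
  have := List.all_eq_true.1 uEl_good n (List.mem_range.2 hn)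
  simp only [Bool.and_eq_true] at this
  exact ⟨this.1.1.1, this.1.1.2, this.1.2, this.2⟩

include hF in
theorem el_inj {n m : ℕ} (hn : n < 125) (hm : m < 125) (h : el hi (uEl n) = el hi (uEl m)) : n = m := by
  have h1 := (el_eq hi hF (uEl_good' hn).1 (uEl_good' hm).1).1 h
  have h2 := List.all_eq_true.1 (List.all_eq_true.1 uEl_distinct n (List.mem_range.2 hn)) m (List.mem_range.2 hm)
  simp only [h1, Bool.not_true, Bool.or_false, decide_eq_true_eq] at h2
  exact h2

theorem gen_mul {g : List ℕ} (hg : g = cA ∨ g = cB ∨ g = cZ) {n : ℕ} (hn : n < 125) :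
    succU g n < 125 ∧ el hi g * el hi (uEl n) = el hi (uEl (succU g n)) := by
  have h := List.all_eq_true.1 uEl_closed n (List.mem_range.2 hn)
  simp only [Bool.and_eq_true, decide_eq_true_eq] at h
  obtain ⟨u0, u1, u2, u3⟩ := uEl_good' hn
  rcases hg with rfl | rfl | rfl
  · exact ⟨h.1.1.1.1.1, by rw [h.1.1.2, el_mul hi (good_basic (by simp)) u0 u1]⟩
  · exact ⟨h.1.1.1.1.2, by rw [h.1.2, el_mul hi (good_basic (by simp)) u0 u2]⟩
  · exact ⟨h.1.1.1.2, by rw [h.2, el_mul hi (good_basic (by simp)) u0 u3]⟩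

theorem el_powM {g : List ℕ} (hg : good g = true) (k : ℕ)
    (hgood : ∀ j < k, good (powM g j) = true ∧ good (mulM (powM g j) g) = true) :
    el hi (powM g k) = el hi g ^ k := by
  induction k with
  | zero => rw [pow_zero, show powM g 0 = oneM by unfold powM; rfl, el_oneM]
  | succ k ih =>
    obtain ⟨a, b⟩ := hgood k (by omega)
    rw [pow_succ, ← ih fun j hj => hgood j (by omega), ← el_mul hi a hg b,
      show powM g (k + 1) = mulM (powM g k) g by conv_lhs => unfold powM]

theorem pow_good' {k : ℕ} (hk : k < 5) : good (powM cA k) = true ∧ good (powM cB k) = true ∧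
    good (powM cZ k) = true ∧ good (mulM (powM cA k) cA) = true ∧ good (mulM (powM cB k) cB) = true ∧
    good (mulM (powM cZ k) cZ) = true := by
  have := List.all_eq_true.1 pow_good k (List.mem_range.2 hk)
  simp only [Bool.and_eq_true] at this
  exact ⟨this.1.1.1.1.1, this.1.1.1.1.2, this.1.1.1.2, this.1.1.2, this.1.2, this.2⟩

include hF in
theorem gen_pow_five {g : List ℕ} (hg : g = cA ∨ g = cB ∨ g = cZ) : el hi g ^ 5 = 1 := by
  obtain ⟨e1, e2, e3, g1, g2, g3⟩ := gens_five
  have h1 : good oneM = true := good_basic (by simp)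
  rcases hg with rfl | rfl | rfl
  · rw [← el_powM hi (good_basic (by simp)) 5 fun j hj => ⟨(pow_good' hj).1, (pow_good' hj).2.2.2.1⟩,
      (el_eq hi hF g1 h1).2 e1, el_oneM]
  · rw [← el_powM hi (good_basic (by simp)) 5 fun j hj => ⟨(pow_good' hj).2.1, (pow_good' hj).2.2.2.2.1⟩,
      (el_eq hi hF g2 h1).2 e2, el_oneM]
  · rw [← el_powM hi (good_basic (by simp)) 5 fun j hj => ⟨(pow_good' hj).2.2.1, (pow_good' hj).2.2.2.2.2⟩,
      (el_eq hi hF g3 h1).2 e3, el_oneM]

include hF in
theorem K_cases {x : Cfsg.PSU 3 F 5} (hx : x ∈ K hi) : ∃ n < 125, x = el hi (uEl n) := by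
  have mul : ∀ g, g = cA ∨ g = cB ∨ g = cZ → ∀ y, (∃ n < 125, y = el hi (uEl n)) →
      ∃ n < 125, el hi g * y = el hi (uEl n) := by
    rintro g hg y ⟨n, hn, rfl⟩
    exact ⟨_, (gen_mul hi hg hn).1, (gen_mul hi hg hn).2⟩
  induction hx using Subgroup.closure_induction_left with
  | one => exact ⟨0, by norm_num, by rw [uEl_zero, el_oneM]⟩
  | mul_left a ha y _ hy =>
    obtain rfl | rfl | rfl := ha
    · exact mul _ (Or.inl rfl) y hy
    · exact mul _ (Or.inr (Or.inl rfl)) y hy
    · exact mul _ (Or.inr (Or.inr rfl)) y hy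
  | inv_mul_cancel a ha y _ hy =>
    obtain ⟨g, hg, rfl⟩ : ∃ g, (g = cA ∨ g = cB ∨ g = cZ) ∧ a = el hi g := by
      obtain rfl | rfl | rfl := ha
      · exact ⟨_, Or.inl rfl, rfl⟩
      · exact ⟨_, Or.inr (Or.inl rfl), rfl⟩
      · exact ⟨_, Or.inr (Or.inr rfl), rfl⟩
    rw [show (el hi g)⁻¹ = el hi g ^ 4 from inv_eq_of_mul_eq_one_right (by rw [← pow_succ', gen_pow_five hi hF hg])]
    simp only [pow_succ, pow_zero, one_mul, mul_assoc]
    exact mul g hg _ (mul g hg _ (mul g hg _ (mul g hg _ hy)))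

theorem uEl_mem {n : ℕ} (hn : n < 125) (hgood : good (mulM (powM cA (n / 25)) (powM cB (n / 5 % 5))) = true) :
    el hi (uEl n) = el hi cA ^ (n / 25) * el hi cB ^ (n / 5 % 5) * el hi cZ ^ (n % 5) := by
  have ha := pow_good' (k := n / 25) (by omega)
  have hb := pow_good' (k := n / 5 % 5) (Nat.mod_lt _ (by norm_num))
  have hc := pow_good' (k := n % 5) (Nat.mod_lt _ (by norm_num))
  have hu := (uEl_good' hn).1
  unfold uEl at hu ⊢
  rw [el_mul hi hgood hc.2.2.1 hu, el_mul hi ha.1 hb.2.1 hgood,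
    el_powM hi (good_basic (by simp)) _ fun j hj => ⟨(pow_good' (k := j) (by omega)).1, (pow_good' (k := j) (by omega)).2.2.2.1⟩,
    el_powM hi (good_basic (by simp)) _ fun j hj => ⟨(pow_good' (k := j) (by omega)).2.1, (pow_good' (k := j) (by omega)).2.2.2.2.1⟩,
    el_powM hi (good_basic (by simp)) _ fun j hj => ⟨(pow_good' (k := j) (by omega)).2.2.1, (pow_good' (k := j) (by omega)).2.2.2.2.2⟩]

theorem uEl_front : ((List.range 125).all fun n => good (mulM (powM cA (n / 25)) (powM cB (n / 5 % 5)))) = true := by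
  decide +kernel

theorem uEl_mem' {n : ℕ} (hn : n < 125) :
    el hi (uEl n) = el hi cA ^ (n / 25) * el hi cB ^ (n / 5 % 5) * el hi cZ ^ (n % 5) :=
  uEl_mem hi hn (List.all_eq_true.1 uEl_front n (List.mem_range.2 hn))

theorem uEl_in_K {n : ℕ} (hn : n < 125) : el hi (uEl n) ∈ K hi := by
  rw [uEl_mem' hi hn]
  exact mul_mem (mul_mem (pow_mem (subset_closure (by simp)) _) (pow_mem (subset_closure (by simp)) _))
    (pow_mem (subset_closure (by simp)) _)

include hF in
theorem card_K : Nat.card (K hi) = 125 := by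
  let f : Fin 125 → K hi := fun n => ⟨_, uEl_in_K hi n.2⟩
  have hf : Function.Bijective f := ⟨fun a b h => Fin.ext (el_inj hi hF a.2 b.2 (congrArg Subtype.val h)),
    fun x => by
      obtain ⟨n, hn, e⟩ := K_cases hi hF x.2
      exact ⟨⟨n, hn⟩, Subtype.ext e.symm⟩⟩
  rw [← Nat.card_eq_of_bijective f hf, Nat.card_fin]

include hF in
theorem comm_rules : el hi cA * el hi cB = el hi cB * el hi cA * el hi cZ ∧
    Commute (el hi cA) (el hi cZ) ∧ Commute (el hi cB) (el hi cZ) := by
  obtain ⟨e1, e2, e3, g1, g2, g3, g4, g5, g6, g7⟩ := comm_eq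
  have hA : good cA = true := good_basic (by simp)
  have hB : good cB = true := good_basic (by simp)
  have hZ : good cZ = true := good_basic (by simp)
  refine ⟨?_, ?_, ?_⟩
  · rw [← el_mul hi hA hB g1, ← el_mul hi hB hA g2, ← el_mul hi g2 hZ g3]
    exact (el_eq hi hF g1 g3).2 e1
  · show _ = _
    rw [← el_mul hi hA hZ g4, ← el_mul hi hZ hA g5]
    exact (el_eq hi hF g4 g5).2 e2
  · show _ = _
    rw [← el_mul hi hB hZ g6, ← el_mul hi hZ hB g7]
    exact (el_eq hi hF g6 g7).2 e3

include hF in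
theorem Z_central {u : Cfsg.PSU 3 F 5} (hu : u ∈ K hi) : Commute u (el hi cZ) := by
  obtain ⟨-, hA, hB⟩ := comm_rules hi hF
  induction hu using Subgroup.closure_induction with
  | mem x hx =>
    obtain rfl | rfl | rfl := hx
    · exact hA
    · exact hB
    · exact Commute.refl _
  | one => exact Commute.one_left _
  | mul x y _ _ hx hy => exact hx.mul_left hy
  | inv x _ hx => exact hx.inv_left

include hF in
/-- the commutators of the Sylow subgroup lie in its centre -/
theorem comm_mem {u v : Cfsg.PSU 3 F 5} (hu : u ∈ K hi) (hv : v ∈ K hi) :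
    ⁅u, v⁆ ∈ zpowers (el hi cZ) := by
  obtain ⟨hAB, hA, hB⟩ := comm_rules hi hF
  set a := el hi cA; set b := el hi cB; set z := el hi cZ
  let S : Subgroup (K hi) := (zpowers z).subgroupOf (K hi)
  haveI : S.Normal := ⟨fun n hn g => by
    simp only [S, mem_subgroupOf] at hn ⊢
    obtain ⟨k, hk⟩ := mem_zpowers_iff.1 hn
    rw [Subgroup.coe_mul, Subgroup.coe_mul, ← hk, ((Z_central hi hF g.2).zpow_right k).eq, InvMemClass.coe_inv,
      mul_inv_cancel_right]
    exact zpow_mem (mem_zpowers z) k⟩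
  let ka : K hi := ⟨a, subset_closure (by simp [a])⟩
  let kb : K hi := ⟨b, subset_closure (by simp [b])⟩
  let kz : K hi := ⟨z, subset_closure (by simp [z])⟩
  have hgen : closure ({ka, kb, kz} : Set (K hi)) = ⊤ := by
    refine eq_top_iff.2 fun x _ => ?_
    have := x.2
    rw [← mem_map_iff_mem (K hi).subtype_injective, MonoidHom.map_closure,
      show (K hi).subtype '' ({ka, kb, kz} : Set (K hi)) = {el hi cA, el hi cB, el hi cZ} by
        simp only [Set.image_insert_eq, Set.image_singleton]; rfl]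
    exact this
  let Q := K hi ⧸ S
  have hz1 : (QuotientGroup.mk kz : Q) = 1 := (QuotientGroup.eq_one_iff _).2 (mem_subgroupOf.2 (mem_zpowers z))
  have hab : (QuotientGroup.mk ka : Q) * QuotientGroup.mk kb = QuotientGroup.mk kb * QuotientGroup.mk ka := by
    have : ka * kb = kb * ka * kz := Subtype.ext hAB
    rw [← QuotientGroup.mk_mul, this, QuotientGroup.mk_mul, hz1, mul_one, QuotientGroup.mk_mul]
  have hQ : closure ({QuotientGroup.mk ka, QuotientGroup.mk kb, 1} : Set Q) = ⊤ := by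
    have := congrArg (Subgroup.map (QuotientGroup.mk' S)) hgen
    rw [MonoidHom.map_closure, map_top_of_surjective _ (QuotientGroup.mk'_surjective S)] at this
    simpa [Set.image_insert_eq, hz1] using this
  have hcomm : ∀ x y : Q, x * y = y * x := by
    have hh := Subgroup.isMulCommutative_closure (k := ({QuotientGroup.mk ka, QuotientGroup.mk kb, 1} : Set Q)) (by
      simp only [Set.mem_insert_iff, Set.mem_singleton_iff]
      rintro x (rfl | rfl | rfl) y (rfl | rfl | rfl) <;> simp [hab])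
    intro x y
    exact congrArg (Subtype.val) (hh.is_comm.comm (⟨x, hQ ▸ mem_top x⟩ : Subgroup.closure _) ⟨y, hQ ▸ mem_top y⟩)
  have h1 : (QuotientGroup.mk ⁅(⟨u, hu⟩ : K hi), ⟨v, hv⟩⁆ : Q) = 1 := by
    rw [← QuotientGroup.mk'_apply, map_commutatorElement, commutatorElement_eq_one_iff_mul_comm]
    exact hcomm _ _
  exact mem_subgroupOf.1 ((QuotientGroup.eq_one_iff _).1 h1)

include hF in
theorem torus_K : (∀ u ∈ K hi, el hi cT * u * (el hi cT)⁻¹ ∈ K hi) ∧
    ∃ k : ℕ, ¬ 5 ∣ k ∧ el hi cT * el hi cZ * (el hi cT)⁻¹ = el hi cZ ^ k := by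
  obtain ⟨h1, h2⟩ := torus_gens
  simp only [decide_eq_true_eq] at h2
  obtain ⟨ti, gT1, gTn, gTg⟩ := torus_inv
  have hT : good cT = true := good_basic (by simp)
  have hinv : (el hi cT)⁻¹ = el hi (adjM cT) := by
    refine inv_eq_of_mul_eq_one_right ?_
    rw [← el_mul hi hT (good_basic (by simp)) gT1, (el_eq hi hF gT1 (good_basic (by simp))).2 ti, el_oneM]
  have key : ∀ g, g = cA ∨ g = cB ∨ g = cZ →
      tImage g < 125 ∧ el hi cT * el hi g * (el hi cT)⁻¹ = el hi (uEl (tImage g)) := by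
    intro g hg
    have := List.all_eq_true.1 h1 g (by rcases hg with rfl | rfl | rfl <;> simp)
    simp only [Bool.and_eq_true, decide_eq_true_eq] at this
    refine ⟨this.1.2, ?_⟩
    rw [(el_eq hi hF (uEl_good' this.1.2).1 this.1.1).2 this.2, hinv]
    have gg := List.all_eq_true.1 gTg g (by rcases hg with rfl | rfl | rfl <;> simp)
    have hgood := this.1.1
    unfold conjM at hgood ⊢
    rw [el_mul hi gg (good_basic (by simp)) hgood,
      el_mul hi hT (good_basic (by rcases hg with rfl | rfl | rfl <;> simp)) gg]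
  refine ⟨fun u hu => ?_, tImage cZ % 5, by omega, ?_⟩
  · have : K hi ≤ (K hi).comap (MulAut.conj (el hi cT)).toMonoidHom := by
      refine (Subgroup.closure_le _).2 ?_
      intro x hx
      show el hi cT * x * (el hi cT)⁻¹ ∈ K hi
      obtain rfl | rfl | rfl := hx
      · rw [(key _ (Or.inl rfl)).2]; exact uEl_in_K hi (key _ (Or.inl rfl)).1
      · rw [(key _ (Or.inr (Or.inl rfl))).2]; exact uEl_in_K hi (key _ (Or.inr (Or.inl rfl))).1
      · rw [(key _ (Or.inr (Or.inr rfl))).2]; exact uEl_in_K hi (key _ (Or.inr (Or.inr rfl))).1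
    exact this hu
  · rw [(key _ (Or.inr (Or.inr rfl))).2, uEl_mem' hi (key _ (Or.inr (Or.inr rfl))).1,
      show tImage cZ / 25 = 0 by omega, show tImage cZ / 5 % 5 = 0 by omega]
    simp

theorem uEl_five : ((List.range 125).all fun n => good (powM (uEl n) 5) && sameP (powM (uEl n) 5) oneM) = true := by
  decide +kernel

include hF in
/-- the torus element fixes no subgroup of order 25 between the centre and the Sylow subgroup -/
theorem torus_moves {a : Cfsg.PSU 3 F 5} (ha : a ∈ K hi) (hout : a ∉ zpowers (el hi cZ)) :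
    ∀ (m : ℤ), ∀ z ∈ zpowers (el hi cZ), el hi cT * a * (el hi cT)⁻¹ ≠ a ^ m * z := by
  intro m z hz heq
  obtain ⟨n, hn, rfl⟩ := K_cases hi hF ha
  have hn5 : n / 5 ≠ 0 := fun h => hout (by
    rw [uEl_mem' hi hn, show n / 25 = 0 by omega, show n / 5 % 5 = 0 by omega]
    simpa using zpow_mem (mem_zpowers (el hi cZ)) ((n % 5 : ℕ) : ℤ))
  have hpg : ∀ r < 5, good (powM (uEl n) r) = true ∧ good (mulM (powM (uEl n) r) (uEl n)) = true := fun r hr => by
    have := List.all_eq_true.1 (List.all_eq_true.1 uEl_pow_good n (List.mem_range.2 hn)) r (List.mem_range.2 hr)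
    simpa only [Bool.and_eq_true] using this
  obtain ⟨ti, gT1, gTn, gTg⟩ := torus_inv
  have hT : good cT = true := good_basic (by simp)
  have hinv : (el hi cT)⁻¹ = el hi (adjM cT) := by
    refine inv_eq_of_mul_eq_one_right ?_
    rw [← el_mul hi hT (good_basic (by simp)) gT1, (el_eq hi hF gT1 (good_basic (by simp))).2 ti, el_oneM]
  have ha5 : el hi (uEl n) ^ 5 = 1 := by
    have h := List.all_eq_true.1 uEl_five n (List.mem_range.2 hn)
    simp only [Bool.and_eq_true] at h
    rw [← el_powM hi (uEl_good' hn).1 5 hpg, (el_eq hi hF h.1 (good_basic (by simp))).2 h.2, el_oneM]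
  have hchk := List.all_eq_true.1 torus_no_eigen n (List.mem_range.2 hn)
  simp only [Bool.or_eq_true, decide_eq_true_eq, hn5, false_or, Bool.and_eq_true] at hchk
  obtain ⟨hgc, hall⟩ := hchk
  obtain ⟨l, rfl⟩ := mem_zpowers_iff.1 hz
  rw [zpow_eq_zpow_emod' m ha5, zpow_eq_zpow_emod' l (gen_pow_five hi hF (Or.inr (Or.inr rfl)))] at heq
  obtain ⟨j, hj, hj'⟩ : ∃ j : ℕ, j < 5 ∧ m % (5 : ℕ) = j :=
    ⟨(m % (5 : ℕ)).toNat, by omega, by omega⟩
  obtain ⟨k, hk, hk'⟩ : ∃ k : ℕ, k < 5 ∧ l % (5 : ℕ) = k :=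
    ⟨(l % (5 : ℕ)).toNat, by omega, by omega⟩
  rw [hj', hk', zpow_natCast, zpow_natCast] at heq
  have h := List.all_eq_true.1 (List.all_eq_true.1 hall j (List.mem_range.2 hj)) k (List.mem_range.2 hk)
  simp only [Bool.and_eq_true, Bool.not_eq_true'] at h
  have hTn := List.all_eq_true.1 gTn n (List.mem_range.2 hn)
  have : sameP (conjM cT (uEl n)) (mulM (powM (uEl n) j) (powM cZ k)) = true := by
    refine (el_eq hi hF hgc h.1.2).1 ?_
    rw [el_mul hi h.1.1 (pow_good' hk).2.2.1 h.1.2, el_powM hi (uEl_good' hn).1 _ fun r hr => hpg r (by omega),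
      el_powM hi (good_basic (by simp)) _ fun r hr => ⟨(pow_good' (k := r) (by omega)).2.2.1, (pow_good' (k := r) (by omega)).2.2.2.2.2⟩,
      ← heq, hinv]
    unfold conjM at hgc ⊢
    rw [el_mul hi hTn (good_basic (by simp)) hgc, el_mul hi hT (uEl_good' hn).1 hTn]
  rw [this] at h
  exact Bool.noConfusion h.2

include hi hF in
theorem fifty_le_index (H : Subgroup (Cfsg.PSU 3 F 5)) (hH : H ≠ ⊤) : 50 ≤ H.index := by
  classical
  haveI : IsSimpleGroup (Cfsg.PSU 3 F 5) := CfsgLib.Classical.psu_isSimple hF le_rfl (by norm_num)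
  haveI : Finite (Cfsg.PSU 3 F 5) := inferInstance
  by_contra hlt
  push Not at hlt
  set X := Cfsg.PSU 3 F 5 ⧸ H
  haveI : Finite X := inferInstance
  have hX : Nat.card X < 50 := hlt
  set z := el hi cZ
  set t := el hi cT
  have hz1 : z ≠ 1 := by
    intro e
    have h0 : el hi (uEl 1) = el hi (uEl 0) := by
      rw [uEl_mem' hi (by norm_num), uEl_zero, el_oneM]
      simpa using e
    exact absurd (el_inj hi hF (by norm_num) (by norm_num) h0) (by norm_num)
  have hz5 : z ^ 5 = 1 := gen_pow_five hi hF (Or.inr (Or.inr rfl))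
  obtain ⟨x, hx⟩ : ∃ x : X, z • x ≠ x := by
    by_contra hall
    push Not at hall
    have hk : z ∈ H.normalCore := by
      rw [Subgroup.normalCore_eq_ker]
      exact MonoidHom.mem_ker.2 (Equiv.ext hall)
    rcases IsSimpleGroup.eq_bot_or_eq_top_of_normal H.normalCore inferInstance with h | h
    · rw [h] at hk; exact hz1 hk
    · exact hH (top_le_iff.1 (h ▸ H.normalCore_le))
  haveI hKfin : Finite (K hi) := inferInstance
  haveI : Fact (Nat.Prime 5) := ⟨by norm_num⟩
  have hKp : IsPGroup 5 (K hi) := IsPGroup.of_card (n := 3) (by rw [card_K hi hF]; norm_num)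
  have horbit : ∀ y : X, z • y ≠ y → Nat.card (MulAction.orbit (K hi) y) = 25 := by
    intro y hy
    obtain ⟨r, hr⟩ := hKp.card_orbit y
    have hle : Nat.card (MulAction.orbit (K hi) y) < 50 :=
      lt_of_le_of_lt (Finite.card_subtype_le _) hX
    have hrlt : r < 3 := by
      by_contra h3
      have : 5 ^ 3 ≤ 5 ^ r := Nat.pow_le_pow_right (by norm_num) (by omega)
      omega
    rcases Nat.eq_zero_or_pos r with rfl | hr1
    · rw [pow_zero] at hr
      have h1 : (⟨z • y, MulAction.mem_orbit y (⟨z, subset_closure (by simp [z])⟩ : K hi)⟩ :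
          MulAction.orbit (K hi) y) = ⟨y, MulAction.mem_orbit_self y⟩ :=
        (Nat.card_eq_one_iff_unique.1 hr).1.elim _ _
      exact absurd (congrArg Subtype.val h1) hy
    rcases eq_or_ne r 1 with rfl | hr2
    · exfalso
      set S := MulAction.stabilizer (K hi) y
      have hSi : S.index = 5 := by rw [MulAction.index_stabilizer, ← Nat.card_coe_set_eq, hr, pow_one]
      haveI : S.Normal := Subgroup.normal_of_index_eq_minFac_card (by
        rw [hSi, card_K hi hF]; norm_num)
      let a : K hi := ⟨el hi cA, subset_closure (by simp)⟩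
      let b : K hi := ⟨el hi cB, subset_closure (by simp)⟩
      haveI : IsCyclic (K hi ⧸ S) := isCyclic_of_prime_card (p := 5) (by rw [← Subgroup.index_eq_card, hSi])
      have hc : ⁅a⁻¹, b⁻¹⁆ ∈ S := by
        rw [← QuotientGroup.eq_one_iff, ← QuotientGroup.mk'_apply, map_commutatorElement,
          commutatorElement_eq_one_iff_mul_comm]
        exact (IsCyclic.commGroup).mul_comm _ _
      apply hy
      have he : ((⁅a⁻¹, b⁻¹⁆ : K hi) : Cfsg.PSU 3 F 5) = z := by
        show (el hi cA)⁻¹ * (el hi cB)⁻¹ * (el hi cA)⁻¹⁻¹ * (el hi cB)⁻¹⁻¹ = z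
        rw [inv_inv, inv_inv, mul_assoc, (comm_rules hi hF).1]
        group
        rfl
      have := MulAction.mem_stabilizer_iff.1 hc
      rwa [show (⁅a⁻¹, b⁻¹⁆ : K hi) • y = z • y by rw [← he]; rfl] at this
    · rw [hr, show r = 2 by omega]; norm_num
  have huniq : ∀ y : X, z • y ≠ y → y ∈ MulAction.orbit (K hi) x := by
    intro y hy
    by_contra hne
    have hdisj : Disjoint (MulAction.orbit (K hi) x) (MulAction.orbit (K hi) y) := by
      rw [Set.disjoint_left]
      intro w hw hw'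
      exact hne (by rw [← MulAction.orbit_eq_iff.2 hw, MulAction.orbit_eq_iff.2 hw']; exact MulAction.mem_orbit_self y)
    have h1 := Set.ncard_union_eq hdisj (Set.toFinite _) (Set.toFinite _)
    rw [← Nat.card_coe_set_eq, ← Nat.card_coe_set_eq (MulAction.orbit (K hi) x),
      ← Nat.card_coe_set_eq (MulAction.orbit (K hi) y), horbit x hx, horbit y hy] at h1
    have h2 : Nat.card ↥(MulAction.orbit (K hi) x ∪ MulAction.orbit (K hi) y) ≤ Nat.card X :=
      Finite.card_subtype_le _
    omega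
  obtain ⟨htK, c, hc5, htz⟩ := torus_K hi hF
  have htx : z • (t • x) ≠ t • x := by
    intro e
    have h1 : (el hi cZ ^ c) • (t • x) = t • x := by
      have : ∀ k : ℕ, z ^ k • (t • x) = t • x := fun k => by
        induction k with
        | zero => rw [pow_zero, one_smul]
        | succ k ih => rw [pow_succ, mul_smul, e, ih]
      exact this c
    rw [← htz, ← mul_smul, inv_mul_cancel_right, mul_smul] at h1
    exact hx ((MulAction.injective t) h1)
  obtain ⟨⟨u, hu⟩, hut⟩ := huniq _ htx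
  change u • x = t • x at hut
  set s := u⁻¹ * t with hs
  have hsx : s • x = x := by rw [hs, mul_smul, ← hut, inv_smul_smul]
  set S := MulAction.stabilizer (K hi) x
  have hScard : Nat.card S = 5 := by
    have h1 := MulAction.index_stabilizer (K hi) x
    rw [← Nat.card_coe_set_eq, horbit x hx] at h1
    have h2 := S.card_mul_index
    rw [h1, card_K hi hF] at h2
    omega
  haveI : Nontrivial S := Finite.one_lt_card_iff_nontrivial.1 (by omega)
  obtain ⟨⟨⟨a, haK⟩, haS⟩, ha1⟩ := exists_ne (1 : S)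
  haveI : Fact (Nat.Prime 5) := ⟨by norm_num⟩
  have hgen : ∀ w : S, w ∈ zpowers (⟨⟨a, haK⟩, haS⟩ : S) := fun w =>
    mem_zpowers_of_prime_card hScard ha1
  have hax : a • x = x := haS
  have haz : a ∉ zpowers z := by
    intro h
    obtain ⟨l, hl⟩ := mem_zpowers_iff.1 h
    obtain ⟨l', hl'⟩ : ∃ l' : ℤ, (z ^ l) ^ l' = z := by
      have hnd : ¬ (5 : ℤ) ∣ l := fun hd => ha1 (Subtype.ext (Subtype.ext (by
        show a = 1
        rw [← hl, zpow_eq_zpow_emod' l hz5, show l % ((5 : ℕ) : ℤ) = 0 from Int.emod_eq_zero_of_dvd hd, zpow_zero])))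
      obtain ⟨l', w, e⟩ : IsCoprime l 5 := ((Int.prime_iff_natAbs_prime.2 (by norm_num)).coprime_iff_not_dvd.2 hnd).symm
      refine ⟨l', ?_⟩
      rw [← zpow_mul, show l * l' = 1 + 5 * -w by linarith, zpow_add, zpow_one, zpow_mul,
        show z ^ (5 : ℤ) = 1 from hz5, one_zpow, mul_one]
    refine hx ?_
    rw [← hl', hl]
    exact MulAction.mem_stabilizer_iff.1 (zpow_mem (MulAction.mem_stabilizer_iff.2 hax : a ∈ MulAction.stabilizer _ x) l')
  have hsK : s * a * s⁻¹ ∈ K hi := by
    rw [hs, show u⁻¹ * t * a * (u⁻¹ * t)⁻¹ = u⁻¹ * (t * a * t⁻¹) * u by group]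
    exact mul_mem (mul_mem (inv_mem hu) (htK a haK)) hu
  have hsS : (⟨s * a * s⁻¹, hsK⟩ : K hi) ∈ S := by
    show (s * a * s⁻¹) • x = x
    rw [mul_smul, mul_smul, show s⁻¹ • x = x from inv_smul_eq_iff.2 hsx.symm, hax, hsx]
  obtain ⟨m, hm⟩ := mem_zpowers_iff.1 (hgen ⟨_, hsS⟩)
  have hm' : a ^ m = s * a * s⁻¹ := congrArg (fun w : S => ((w : K hi) : Cfsg.PSU 3 F 5)) hm
  have hcz := comm_mem hi hF hu (Subgroup.zpow_mem _ haK m)
  refine torus_moves hi hF haK haz m ((a ^ m)⁻¹ * ⁅u, a ^ m⁆ * a ^ m) ?_ ?_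
  · obtain ⟨l, hl⟩ := mem_zpowers_iff.1 hcz
    rw [← hl, mul_assoc, ← ((Z_central hi hF (Subgroup.zpow_mem _ haK m)).zpow_right l).eq, inv_mul_cancel_left]
    exact zpow_mem (mem_zpowers z) l
  · show t * a * t⁻¹ = _
    rw [commutatorElement_def, show t = u * s by rw [hs, mul_inv_cancel_left],
      show u * s * a * (u * s)⁻¹ = u * (s * a * s⁻¹) * u⁻¹ by group, ← hm']
    group

end CfsgLib.SU.Five
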